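import Groth.Agent.S7803
import Groth.Agent.S0384
import Groth.Agent.S9802
import Groth.Agent.S7612
import Groth.Agent.FpqcDesc.Props
import Groth.Agent.FBase.BC
import Groth.Agent.FlatMor.SchDom
import Groth.Agent.Comod.LunaEtale
import Groth.Prelude.Def_Pi1

/-!
A morphism to a normal scheme with proper connected geometric fibres is proper.
-/

set_option autoImplicit false
set_option linter.style.haveILetI false
set_option backward.isDefEq.respectTransparency.types false

universe u

open CategoryTheory CategoryTheory.Limits AlgebraicGeometry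

noncomputable section

namespace Groth.Agent.ProperGeomFib

variable {X Y : Scheme.{u}} (f : X ⟶ Y)

/-- Every fibre over a field-valued point is proper and connected. -/
def GoodFibres : Prop :=
  ∀ ⦃K : Type u⦄ [Field K] (y : Spec (CommRingCat.of K) ⟶ Y) ⦃P : Scheme.{u}⦄ (a : P ⟶ X)
    (b : P ⟶ Spec (CommRingCat.of K)), IsPullback a b f y → IsProper b ∧ ConnectedSpace ↥P

theorem goodFibres_of_geometric
    (hfib : ∀ (Ω : Type u) [Field Ω] [IsAlgClosed Ω] (y : Spec (CommRingCat.of Ω) ⟶ Y),
      IsProper (pullback.snd f y) ∧ ConnectedSpace ↥(pullback f y)) : GoodFibres f := by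
  intro K _ y P a b h
  let q : Spec (CommRingCat.of (AlgebraicClosure K)) ⟶ Spec (CommRingCat.of K) :=
    Spec.map (CommRingCat.ofHom (algebraMap K (AlgebraicClosure K)))
  obtain ⟨h1, h2⟩ := hfib (AlgebraicClosure K) (q ≫ y)
  let e : pullback b q ≅ pullback f (q ≫ y) :=
    ((IsPullback.of_hasPullback b q).paste_horiz h.flip.flip).isoPullback
  have he : e.hom ≫ pullback.snd f (q ≫ y) = pullback.snd b q := IsPullback.isoPullback_hom_snd _
  have hflat : Flat q := by
    rw [HasRingHomProperty.Spec_iff (P := @Flat)]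
    exact RingHom.flat_algebraMap_iff.mpr inferInstance
  have hsurj : Surjective q := FBase.BC.surjective_specMap
  have hp : IsProper (pullback.snd b q) := by rw [← he]; infer_instance
  haveI := FpqcDesc.descendsAlong_isProper.{u}
  refine ⟨MorphismProperty.of_pullback_snd_of_descendsAlong (P := @IsProper)
    (Q := FpqcDesc.FPQC) (f := b) ⟨⟨hsurj, hflat⟩, inferInstance⟩ hp, ?_⟩
  haveI : ConnectedSpace ↥(pullback b q) := by
    haveI := h2
    exact e.inv.homeomorph.surjective.connectedSpace e.inv.homeomorph.continuous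
  haveI : Surjective (pullback.fst b q) := MorphismProperty.pullback_fst _ _ hsurj
  exact (pullback.fst b q).surjective.connectedSpace (pullback.fst b q).continuous

variable {f} {Xc : Scheme.{u}} {j : X ⟶ Xc} {g : Xc ⟶ Y}

/-- In a fibre of a separated compactification the original scheme is open and closed. -/
theorem isClopen_preimage_range (hf : GoodFibres f) [IsOpenImmersion j] [IsSeparated g]
    (hjg : j ≫ g = f) {K : Type u} [Field K] (y : Spec (CommRingCat.of K) ⟶ Y) {Z : Scheme.{u}}
    (a : Z ⟶ Xc) (b : Z ⟶ Spec (CommRingCat.of K)) (h : IsPullback a b g y) :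
    IsClopen (a ⁻¹' Set.range j) ∧ _root_.IsConnected (a ⁻¹' Set.range j) := by
  have hP : IsPullback (pullback.snd a j) (pullback.fst a j ≫ b) f y :=
    hjg ▸ (IsPullback.of_hasPullback a j).flip.paste_vert h
  obtain ⟨h1, h2⟩ := hf y _ _ hP
  haveI : IsSeparated b := MorphismProperty.of_isPullback h inferInstance
  haveI : IsProper (pullback.fst a j) := IsProper.of_comp (pullback.fst a j) b
  rw [← Scheme.Pullback.range_fst]
  exact ⟨⟨(pullback.fst a j).isClosedMap.isClosed_range,
    (pullback.fst a j).isOpenEmbedding.isOpen_range⟩,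
    isConnected_range (pullback.fst a j).continuous⟩

/-- A morphism to a normal scheme with proper connected geometric fibres is proper. -/
theorem isProper_of_goodFibres [IsSeparated f] [LocallyOfFiniteType f] [QuasiCompact f]
    [IsIntegral X] [IsIntegral Y] [IsNoetherian Y] (hY : Pi1.IsNormalScheme Y)
    (hf : GoodFibres f) : IsProper f := by
  obtain ⟨X₁, j₁, g₁, hj₁, hqc₁, hg₁, hjg₁⟩ := Groth.Agent.S0384.result f
  haveI := hj₁
  haveI := hqc₁
  haveI := hg₁
  haveI : IsIntegral j₁.image := Groth.Agent.S9802.isIntegral_image j₁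
  let j := j₁.toImage
  let g := j₁.imageι ≫ g₁
  haveI : IsOpenImmersion j := FlatMor.SchDom.isOpenImmersion_toImage' j₁ (Or.inl hqc₁)
  haveI : IsProper g := inferInstance
  have hjg : j ≫ g = f := by simp [j, g, hjg₁]
  haveI : Surjective f := ⟨fun y => by
    obtain ⟨-, h2⟩ := hf (Y.fromSpecResidueField y) _ _ (IsPullback.of_hasPullback f _)
    obtain ⟨z⟩ := h2.toNonempty
    exact ⟨f.fiberι y z, (f.range_fiberι y).le ⟨z, rfl⟩⟩⟩
  haveI : Surjective g := ⟨fun y => by
    obtain ⟨x, hx⟩ := f.surjective y
    exact ⟨j x, by rw [← Scheme.Hom.comp_apply, hjg, hx]⟩⟩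
  have hgen : g (genericPoint j₁.image) = genericPoint Y := by
    have h1 := (genericPoint_spec j₁.image).image g.continuous
    rw [Set.image_univ, g.surjective.range_eq, closure_univ] at h1
    exact h1.eq (genericPoint_spec Y)
  have hξ : genericPoint j₁.image ∈ Set.range j :=
    ((genericPoint_spec j₁.image).mem_open_set_iff j.isOpenEmbedding.isOpen_range).mpr
      (by simpa using Set.range_nonempty j)
  have hall : ∀ ⦃K : Type u⦄ [Field K] (y : Spec (CommRingCat.of K) ⟶ Y) {Z : Scheme.{u}}
      (a : Z ⟶ j₁.image) (b : Z ⟶ Spec (CommRingCat.of K)), IsPullback a b g y →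
      a ⁻¹' Set.range j = Set.univ → ConnectedSpace ↥Z := fun K _ y Z a b h hu => by
    have h2 := (isClopen_preimage_range hf hjg y a b h).2
    rw [hu] at h2
    exact connectedSpace_iff_univ.mpr h2
  haveI hη : GeometricallyConnected (g.fiberToSpecResidueField (genericPoint Y)) := by
    refine ⟨fun K _ y Z fst snd hZ => ?_⟩
    have h := hZ.paste_horiz (IsPullback.of_hasPullback g (Y.fromSpecResidueField (genericPoint Y)))
    refine hall _ _ _ h ?_
    by_contra hne
    haveI : UniversallyOpen y := Groth.Agent.S7612.universallyOpen_of_field y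
    haveI : UniversallyOpen fst := MorphismProperty.of_isPullback hZ.flip inferInstance
    obtain ⟨hc, -⟩ := isClopen_preimage_range hf hjg _ _ _ h
    obtain ⟨O, hO, hOW⟩ := ((g.fiberι (genericPoint Y)).isEmbedding.isInducing.isOpen_iff).1
      (fst.isOpenMap _ hc.isClosed.isOpen_compl)
    obtain ⟨ζ, hζ⟩ : genericPoint j₁.image ∈ Set.range (g.fiberι (genericPoint Y)) := by
      rw [Scheme.Hom.range_fiberι]
      exact hgen
    obtain ⟨w, hw⟩ := Set.ne_univ_iff_exists_notMem _ |>.1 hne
    have hmem : g.fiberι (genericPoint Y) (fst w) ∈ O := (Set.ext_iff.1 hOW (fst w)).2 ⟨w, hw, rfl⟩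
    have hζO : g.fiberι (genericPoint Y) ζ ∈ O := by
      rw [hζ]
      exact ((genericPoint_spec j₁.image).specializes trivial).mem_open hO hmem
    obtain ⟨w', hw', hw''⟩ := (Set.ext_iff.1 hOW ζ).1 hζO
    apply hw'
    show (fst ≫ g.fiberι (genericPoint Y)) w' ∈ Set.range j
    rw [Scheme.Hom.comp_apply, hw'', hζ]
    exact hξ
  have hY' : ∀ y : Y, CAlg2.IsGeomUnibranch (Y.presheaf.stalk y) := fun y => by
    haveI := (hY y).1
    haveI := (hY y).2
    exact Groth.Agent.Comod.isGeomUnibranch_of_normal _
  haveI := Groth.Agent.S7803.result g hY' hη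
  haveI : Surjective j := ⟨fun x => by
    have h : IsPullback (g.fiberι (g x)) (g.fiberToSpecResidueField (g x)) g
        (Y.fromSpecResidueField (g x)) := IsPullback.of_hasPullback _ _
    obtain ⟨hc, hcon⟩ := isClopen_preimage_range hf hjg _ _ _ h
    haveI : ConnectedSpace ↥(g.fiber (g x)) :=
      GeometricallyConnected.geometrically_connectedSpace (f := g) _ _ _ h
    obtain ⟨z, hz⟩ : x ∈ Set.range (g.fiberι (g x)) := by
      rw [Scheme.Hom.range_fiberι]
      rfl
    have hz' : z ∈ g.fiberι (g x) ⁻¹' Set.range j := by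
      rw [hc.eq_univ hcon.nonempty]
      trivial
    rw [Set.mem_preimage, hz] at hz'
    exact hz'⟩
  haveI : IsIso j := (isIso_iff_isOpenImmersion_and_epi_base j).mpr
    ⟨inferInstance, (TopCat.epi_iff_surjective _).mpr j.surjective⟩
  rw [← hjg]
  infer_instance

end Groth.Agent.ProperGeomFib
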